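import Cfsg.Agent.H944.TS.EigTab

set_option autoImplicit false
set_option maxRecDepth 100000

namespace Cfsg.Agent.H944.TS.Eig

open Cfsg.Agent.H944.Tab

theorem chk3 : chkA 3 [[18, 27, 27], [22, 25, 25], [24, 24, 24], [30, 21, 21], [40, 16, 16], [72, 0, 0]] = true := by
  decide +kernel

theorem chk5 : chkA 5 [[12, 15, 15, 15, 15], [72, 0, 0, 0, 0]] = true := by decide +kernel

theorem chk7 : chkA 7 [[6, 11, 11, 11, 11, 11, 11], [12, 10, 10, 10, 10, 10, 10], [24, 8, 8, 8, 8, 8, 8],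
    [72, 0, 0, 0, 0, 0, 0]] = true := by decide +kernel

theorem chk9 : chkA 9 [[2, 9, 9, 8, 9, 9, 8, 9, 9], [4, 9, 9, 7, 9, 9, 7, 9, 9], [8, 9, 9, 5, 9, 9, 5, 9, 9],
    [18, 0, 0, 27, 0, 0, 27, 0, 0], [22, 0, 0, 25, 0, 0, 25, 0, 0], [24, 0, 0, 24, 0, 0, 24, 0, 0],
    [30, 0, 0, 21, 0, 0, 21, 0, 0], [40, 0, 0, 16, 0, 0, 16, 0, 0], [72, 0, 0, 0, 0, 0, 0, 0, 0]] = true := by
  decide +kernel

theorem chk11 : chkA 11 [[2, 7, 7, 7, 7, 7, 7, 7, 7, 7, 7], [72, 0, 0, 0, 0, 0, 0, 0, 0, 0, 0]] = true := by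
  decide +kernel

/-- the slice of `chkA` with first coordinate `x` (split of the kernel check, helper592) -/
def slc (N : ℕ) (L : List (List ℕ)) (x : ℕ) : Bool :=
  allAlc [2, 2, 3, 2, 1] (N - 1 * x) fun y => bif invB N 2 R6 (x :: y) then chkT N L (x :: y) else true

theorem chkA_eq (N : ℕ) (L : List (List ℕ)) : chkA N L = (List.range (N / 1 + 1)).all (slc N L) := rfl

/-- the table for `13` -/
def L13 : List (List ℕ) := [[0, 6, 6, 6, 6, 6, 6, 6, 6, 6, 6, 6, 6], [72, 0, 0, 0, 0, 0, 0, 0, 0, 0, 0, 0, 0]]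

theorem slc13_0 : slc 13 L13 0 = true := by decide +kernel

theorem slc13_1 : slc 13 L13 1 = true := by decide +kernel

theorem slc13_2 : (slc 13 L13 2 && slc 13 L13 3) = true := by decide +kernel

theorem slc13_4 : ([4, 5, 6, 7, 8, 9, 10, 11, 12, 13] : List ℕ).all (slc 13 L13) = true := by decide +kernel

theorem range14 : List.range (13 / 1 + 1) = 0 :: 1 :: 2 :: 3 :: [4, 5, 6, 7, 8, 9, 10, 11, 12, 13] := by decide

theorem chk13 : chkA 13 [[0, 6, 6, 6, 6, 6, 6, 6, 6, 6, 6, 6, 6], [72, 0, 0, 0, 0, 0, 0, 0, 0, 0, 0, 0, 0]] = true := by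
  have h := slc13_2
  rw [Bool.and_eq_true] at h
  have key : (List.range (13 / 1 + 1)).all (slc 13 L13) = true := by
    rw [range14, List.all_cons, List.all_cons, List.all_cons, List.all_cons, slc13_0, slc13_1, h.1, h.2, slc13_4]
    rfl
  exact key

end Cfsg.Agent.H944.TS.Eig
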