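import Cfsg.Agent.H944.TS.EigTab

set_option autoImplicit false
set_option maxRecDepth 100000
set_option Elab.async false

namespace Cfsg.Agent.H944.TS.Eig

open Cfsg.Agent.H944.Tab

/-- the tables for elements of order 19 -/
def L19 : List (List ℕ) :=
  [[0, 4, 4, 4, 4, 4, 4, 4, 4, 4, 4, 4, 4, 4, 4, 4, 4, 4, 4],
    [72, 0, 0, 0, 0, 0, 0, 0, 0, 0, 0, 0, 0, 0, 0, 0, 0, 0, 0]]

/-- the check for the vectors with first entries `a` and `b` -/
def piece (a b : ℕ) : Bool :=
  allAlc [2, 3, 2, 1] (19 - 1 * a - 2 * b) fun y =>
    bif invB 19 2 R6 (a :: b :: y) then chkT 19 L19 (a :: b :: y) else true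

/-- the check for the vectors with first entry `a` -/
def row (a : ℕ) : Bool := (List.range ((19 - 1 * a) / 2 + 1)).all fun b => piece a b

theorem pc0_0 : piece 0 0 = true := by decide +kernel
theorem pc0_1 : piece 0 1 = true := by decide +kernel
theorem pc0_2 : piece 0 2 = true := by decide +kernel
theorem pc0_3 : piece 0 3 = true := by decide +kernel
theorem pc0_4 : piece 0 4 = true := by decide +kernel
theorem pc0_5 : piece 0 5 = true := by decide +kernel
theorem pc0_6 : piece 0 6 = true := by decide +kernel
theorem pc0_7 : piece 0 7 = true := by decide +kernel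
theorem pc0_8 : piece 0 8 = true := by decide +kernel
theorem pc0_9 : piece 0 9 = true := by decide +kernel

theorem row0 : row 0 = true := by
  rw [row, List.all_eq_true]
  intro b hb
  replace hb : b < 10 := List.mem_range.1 hb
  interval_cases b
  · exact pc0_0
  · exact pc0_1
  · exact pc0_2
  · exact pc0_3
  · exact pc0_4
  · exact pc0_5
  · exact pc0_6
  · exact pc0_7
  · exact pc0_8
  · exact pc0_9

theorem pc1_0 : piece 1 0 = true := by decide +kernel
theorem pc1_1 : piece 1 1 = true := by decide +kernel
theorem pc1_2 : piece 1 2 = true := by decide +kernel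
theorem pc1_3 : piece 1 3 = true := by decide +kernel
theorem pc1_4 : piece 1 4 = true := by decide +kernel
theorem pc1_5 : piece 1 5 = true := by decide +kernel
theorem pc1_6 : piece 1 6 = true := by decide +kernel
theorem pc1_7 : piece 1 7 = true := by decide +kernel
theorem pc1_8 : piece 1 8 = true := by decide +kernel
theorem pc1_9 : piece 1 9 = true := by decide +kernel

theorem row1 : row 1 = true := by
  rw [row, List.all_eq_true]
  intro b hb
  replace hb : b < 10 := List.mem_range.1 hb
  interval_cases b
  · exact pc1_0
  · exact pc1_1
  · exact pc1_2
  · exact pc1_3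
  · exact pc1_4
  · exact pc1_5
  · exact pc1_6
  · exact pc1_7
  · exact pc1_8
  · exact pc1_9

theorem pc2_0 : piece 2 0 = true := by decide +kernel
theorem pc2_1 : piece 2 1 = true := by decide +kernel
theorem pc2_2 : piece 2 2 = true := by decide +kernel
theorem pc2_3 : piece 2 3 = true := by decide +kernel
theorem pc2_4 : piece 2 4 = true := by decide +kernel
theorem pc2_5 : piece 2 5 = true := by decide +kernel
theorem pc2_6 : piece 2 6 = true := by decide +kernel
theorem pc2_7 : piece 2 7 = true := by decide +kernel
theorem pc2_8 : piece 2 8 = true := by decide +kernel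

theorem row2 : row 2 = true := by
  rw [row, List.all_eq_true]
  intro b hb
  replace hb : b < 9 := List.mem_range.1 hb
  interval_cases b
  · exact pc2_0
  · exact pc2_1
  · exact pc2_2
  · exact pc2_3
  · exact pc2_4
  · exact pc2_5
  · exact pc2_6
  · exact pc2_7
  · exact pc2_8

theorem pc3_0 : piece 3 0 = true := by decide +kernel
theorem pc3_1 : piece 3 1 = true := by decide +kernel
theorem pc3_2 : piece 3 2 = true := by decide +kernel
theorem pc3_3 : piece 3 3 = true := by decide +kernel
theorem pc3_4 : piece 3 4 = true := by decide +kernel
theorem pc3_5 : piece 3 5 = true := by decide +kernel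
theorem pc3_6 : piece 3 6 = true := by decide +kernel
theorem pc3_7 : piece 3 7 = true := by decide +kernel
theorem pc3_8 : piece 3 8 = true := by decide +kernel

theorem row3 : row 3 = true := by
  rw [row, List.all_eq_true]
  intro b hb
  replace hb : b < 9 := List.mem_range.1 hb
  interval_cases b
  · exact pc3_0
  · exact pc3_1
  · exact pc3_2
  · exact pc3_3
  · exact pc3_4
  · exact pc3_5
  · exact pc3_6
  · exact pc3_7
  · exact pc3_8

theorem pc4_0 : piece 4 0 = true := by decide +kernel
theorem pc4_1 : piece 4 1 = true := by decide +kernel
theorem pc4_2 : piece 4 2 = true := by decide +kernel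
theorem pc4_3 : piece 4 3 = true := by decide +kernel
theorem pc4_4 : piece 4 4 = true := by decide +kernel
theorem pc4_5 : piece 4 5 = true := by decide +kernel
theorem pc4_6 : piece 4 6 = true := by decide +kernel
theorem pc4_7 : piece 4 7 = true := by decide +kernel

theorem row4 : row 4 = true := by
  rw [row, List.all_eq_true]
  intro b hb
  replace hb : b < 8 := List.mem_range.1 hb
  interval_cases b
  · exact pc4_0
  · exact pc4_1
  · exact pc4_2
  · exact pc4_3
  · exact pc4_4
  · exact pc4_5
  · exact pc4_6
  · exact pc4_7

theorem pc5_0 : piece 5 0 = true := by decide +kernel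
theorem pc5_1 : piece 5 1 = true := by decide +kernel
theorem pc5_2 : piece 5 2 = true := by decide +kernel
theorem pc5_3 : piece 5 3 = true := by decide +kernel
theorem pc5_4 : piece 5 4 = true := by decide +kernel
theorem pc5_5 : piece 5 5 = true := by decide +kernel
theorem pc5_6 : piece 5 6 = true := by decide +kernel
theorem pc5_7 : piece 5 7 = true := by decide +kernel

theorem row5 : row 5 = true := by
  rw [row, List.all_eq_true]
  intro b hb
  replace hb : b < 8 := List.mem_range.1 hb
  interval_cases b
  · exact pc5_0
  · exact pc5_1
  · exact pc5_2
  · exact pc5_3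
  · exact pc5_4
  · exact pc5_5
  · exact pc5_6
  · exact pc5_7

theorem pc6_0 : piece 6 0 = true := by decide +kernel
theorem pc6_1 : piece 6 1 = true := by decide +kernel
theorem pc6_2 : piece 6 2 = true := by decide +kernel
theorem pc6_3 : piece 6 3 = true := by decide +kernel
theorem pc6_4 : piece 6 4 = true := by decide +kernel
theorem pc6_5 : piece 6 5 = true := by decide +kernel
theorem pc6_6 : piece 6 6 = true := by decide +kernel

theorem row6 : row 6 = true := by
  rw [row, List.all_eq_true]
  intro b hb
  replace hb : b < 7 := List.mem_range.1 hb
  interval_cases b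
  · exact pc6_0
  · exact pc6_1
  · exact pc6_2
  · exact pc6_3
  · exact pc6_4
  · exact pc6_5
  · exact pc6_6

theorem pc7_0 : piece 7 0 = true := by decide +kernel
theorem pc7_1 : piece 7 1 = true := by decide +kernel
theorem pc7_2 : piece 7 2 = true := by decide +kernel
theorem pc7_3 : piece 7 3 = true := by decide +kernel
theorem pc7_4 : piece 7 4 = true := by decide +kernel
theorem pc7_5 : piece 7 5 = true := by decide +kernel
theorem pc7_6 : piece 7 6 = true := by decide +kernel

theorem row7 : row 7 = true := by
  rw [row, List.all_eq_true]
  intro b hb
  replace hb : b < 7 := List.mem_range.1 hb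
  interval_cases b
  · exact pc7_0
  · exact pc7_1
  · exact pc7_2
  · exact pc7_3
  · exact pc7_4
  · exact pc7_5
  · exact pc7_6

theorem pc8_0 : piece 8 0 = true := by decide +kernel
theorem pc8_1 : piece 8 1 = true := by decide +kernel
theorem pc8_2 : piece 8 2 = true := by decide +kernel
theorem pc8_3 : piece 8 3 = true := by decide +kernel
theorem pc8_4 : piece 8 4 = true := by decide +kernel
theorem pc8_5 : piece 8 5 = true := by decide +kernel

theorem row8 : row 8 = true := by
  rw [row, List.all_eq_true]
  intro b hb
  replace hb : b < 6 := List.mem_range.1 hb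
  interval_cases b
  · exact pc8_0
  · exact pc8_1
  · exact pc8_2
  · exact pc8_3
  · exact pc8_4
  · exact pc8_5

theorem pc9_0 : piece 9 0 = true := by decide +kernel
theorem pc9_1 : piece 9 1 = true := by decide +kernel
theorem pc9_2 : piece 9 2 = true := by decide +kernel
theorem pc9_3 : piece 9 3 = true := by decide +kernel
theorem pc9_4 : piece 9 4 = true := by decide +kernel
theorem pc9_5 : piece 9 5 = true := by decide +kernel

theorem row9 : row 9 = true := by
  rw [row, List.all_eq_true]
  intro b hb
  replace hb : b < 6 := List.mem_range.1 hb
  interval_cases b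
  · exact pc9_0
  · exact pc9_1
  · exact pc9_2
  · exact pc9_3
  · exact pc9_4
  · exact pc9_5

theorem pc10_0 : piece 10 0 = true := by decide +kernel
theorem pc10_1 : piece 10 1 = true := by decide +kernel
theorem pc10_2 : piece 10 2 = true := by decide +kernel
theorem pc10_3 : piece 10 3 = true := by decide +kernel
theorem pc10_4 : piece 10 4 = true := by decide +kernel

theorem row10 : row 10 = true := by
  rw [row, List.all_eq_true]
  intro b hb
  replace hb : b < 5 := List.mem_range.1 hb
  interval_cases b
  · exact pc10_0
  · exact pc10_1
  · exact pc10_2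
  · exact pc10_3
  · exact pc10_4

theorem pc11_0 : piece 11 0 = true := by decide +kernel
theorem pc11_1 : piece 11 1 = true := by decide +kernel
theorem pc11_2 : piece 11 2 = true := by decide +kernel
theorem pc11_3 : piece 11 3 = true := by decide +kernel
theorem pc11_4 : piece 11 4 = true := by decide +kernel

theorem row11 : row 11 = true := by
  rw [row, List.all_eq_true]
  intro b hb
  replace hb : b < 5 := List.mem_range.1 hb
  interval_cases b
  · exact pc11_0
  · exact pc11_1
  · exact pc11_2
  · exact pc11_3
  · exact pc11_4

theorem pc12_0 : piece 12 0 = true := by decide +kernel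
theorem pc12_1 : piece 12 1 = true := by decide +kernel
theorem pc12_2 : piece 12 2 = true := by decide +kernel
theorem pc12_3 : piece 12 3 = true := by decide +kernel

theorem row12 : row 12 = true := by
  rw [row, List.all_eq_true]
  intro b hb
  replace hb : b < 4 := List.mem_range.1 hb
  interval_cases b
  · exact pc12_0
  · exact pc12_1
  · exact pc12_2
  · exact pc12_3

theorem pc13_0 : piece 13 0 = true := by decide +kernel
theorem pc13_1 : piece 13 1 = true := by decide +kernel
theorem pc13_2 : piece 13 2 = true := by decide +kernel
theorem pc13_3 : piece 13 3 = true := by decide +kernel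

theorem row13 : row 13 = true := by
  rw [row, List.all_eq_true]
  intro b hb
  replace hb : b < 4 := List.mem_range.1 hb
  interval_cases b
  · exact pc13_0
  · exact pc13_1
  · exact pc13_2
  · exact pc13_3

theorem pc14_0 : piece 14 0 = true := by decide +kernel
theorem pc14_1 : piece 14 1 = true := by decide +kernel
theorem pc14_2 : piece 14 2 = true := by decide +kernel

theorem row14 : row 14 = true := by
  rw [row, List.all_eq_true]
  intro b hb
  replace hb : b < 3 := List.mem_range.1 hb
  interval_cases b
  · exact pc14_0
  · exact pc14_1
  · exact pc14_2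

theorem pc15_0 : piece 15 0 = true := by decide +kernel
theorem pc15_1 : piece 15 1 = true := by decide +kernel
theorem pc15_2 : piece 15 2 = true := by decide +kernel

theorem row15 : row 15 = true := by
  rw [row, List.all_eq_true]
  intro b hb
  replace hb : b < 3 := List.mem_range.1 hb
  interval_cases b
  · exact pc15_0
  · exact pc15_1
  · exact pc15_2

theorem pc16_0 : piece 16 0 = true := by decide +kernel
theorem pc16_1 : piece 16 1 = true := by decide +kernel

theorem row16 : row 16 = true := by
  rw [row, List.all_eq_true]
  intro b hb
  replace hb : b < 2 := List.mem_range.1 hb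
  interval_cases b
  · exact pc16_0
  · exact pc16_1

theorem pc17_0 : piece 17 0 = true := by decide +kernel
theorem pc17_1 : piece 17 1 = true := by decide +kernel

theorem row17 : row 17 = true := by
  rw [row, List.all_eq_true]
  intro b hb
  replace hb : b < 2 := List.mem_range.1 hb
  interval_cases b
  · exact pc17_0
  · exact pc17_1

theorem pc18_0 : piece 18 0 = true := by decide +kernel

theorem row18 : row 18 = true := by
  rw [row, List.all_eq_true]
  intro b hb
  replace hb : b < 1 := List.mem_range.1 hb
  interval_cases b
  · exact pc18_0

theorem pc19_0 : piece 19 0 = true := by decide +kernel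

theorem row19 : row 19 = true := by
  rw [row, List.all_eq_true]
  intro b hb
  replace hb : b < 1 := List.mem_range.1 hb
  interval_cases b
  · exact pc19_0

theorem chk19 : chkA 19 L19 = true := by
  have h : (List.range 20).all row = true := by
    rw [List.all_eq_true]
    intro a ha
    rw [List.mem_range] at ha
    interval_cases a
    · exact row0
    · exact row1
    · exact row2
    · exact row3
    · exact row4
    · exact row5
    · exact row6
    · exact row7
    · exact row8
    · exact row9
    · exact row10
    · exact row11
    · exact row12
    · exact row13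
    · exact row14
    · exact row15
    · exact row16
    · exact row17
    · exact row18
    · exact row19
  exact h

end Cfsg.Agent.H944.TS.Eig
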