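import Cfsg.Agent.H944.TS.Eig
import Cfsg.Agent.H944.TS.EigChk
import Cfsg.Agent.H944.TS.EigChkB

/-!
# Eigenvalues of the elements of odd order of `²E₆(2)` on the 78-dimensional module: the characteristic polynomials
(helper944)
-/

set_option autoImplicit false
set_option maxRecDepth 100000

namespace Cfsg.Agent.H944.TS.Eig

open Cfsg.Lie Polynomial

universe u

theorem prod_range_root {k : Type*} [Field k] {N : ℕ} (hN : 0 < N) {ζ : k} (hζ : IsPrimitiveRoot ζ N) :
    ∏ c ∈ Finset.range N, (X - C (ζ ^ c)) = (X ^ N - 1 : k[X]) := by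
  classical
  rw [X_pow_sub_one_eq_prod hN hζ]
  have h1 : nthRoots N (1 : k) = (Multiset.range N).map (fun c => ζ ^ c) := by
    rw [hζ.nthRoots_eq (one_pow N)]
    simp
  have h2 : (nthRootsFinset N (1 : k)) = (Finset.range N).image (fun c => ζ ^ c) := by
    rw [nthRootsFinset, h1]
    rfl
  rw [h2, Finset.prod_image]
  intro a ha b hb hab
  exact hζ.pow_inj (Finset.mem_range.1 ha) (Finset.mem_range.1 hb) hab

variable {K : Type u} [Field K]

/-- The characteristic polynomial is `(X - 1) ^ a * ((X ^ N - 1) / (X - 1)) ^ b`: the eigenvalue 1 has multiplicity `a`,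
each primitive `N`-th root of unity (`N` prime) has multiplicity `b`. -/
def CP {ι : Type} [Fintype ι] [DecidableEq ι] (A : Matrix ι ι K) (N a b : ℕ) : Prop :=
  A.charpoly * (X - 1) ^ b = (X - 1) ^ a * (X ^ N - 1) ^ b

/-- `N = 9`: the eigenvalue 1 has multiplicity `a`, the primitive cube roots of unity `b`, the primitive ninth roots of
unity `c`. -/
def CPNine {ι : Type} [Fintype ι] [DecidableEq ι] (A : Matrix ι ι K) (a b c : ℕ) : Prop :=
  A.charpoly * (X - 1) ^ b * (X ^ 3 - 1) ^ c = (X - 1) ^ a * (X ^ 3 - 1) ^ b * (X ^ 9 - 1) ^ c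

theorem cp_prime {N : ℕ} (hN : 0 < N) {T : List ℕ} {a b : ℕ} (hT : ∀ c < N, 0 < c → T.getD c 0 = b)
    (hT0 : 6 + T.getD 0 0 = a)
    {ζ : AlgebraicClosure K} (hζ : IsPrimitiveRoot ζ N) {ι : Type} [Fintype ι] [DecidableEq ι] {A : Matrix ι ι K}
    (h : A.charpoly.map (algebraMap K (AlgebraicClosure K)) =
        (X - 1) ^ 6 * ∏ c ∈ Finset.range N, (X - C (ζ ^ c)) ^ (T.getD c 0)) :
    CP A N a b := by
  show A.charpoly * (X - 1) ^ b = (X - 1) ^ a * (X ^ N - 1) ^ b
  refine Polynomial.map_injective _ (algebraMap K (AlgebraicClosure K)).injective ?_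
  rw [Polynomial.map_mul, h]
  simp only [Polynomial.map_mul, Polynomial.map_pow, Polynomial.map_sub, Polynomial.map_one, Polynomial.map_X]
  rw [← prod_range_root hN hζ, ← Finset.prod_pow]
  obtain ⟨n, rfl⟩ := Nat.exists_eq_succ_of_ne_zero hN.ne'
  rw [Finset.prod_range_succ', Finset.prod_range_succ']
  have h1 : ∏ c ∈ Finset.range n, (X - C (ζ ^ (c + 1))) ^ (T.getD (c + 1) 0) =
      ∏ c ∈ Finset.range n, (X - C (ζ ^ (c + 1))) ^ b := by
    refine Finset.prod_congr rfl fun c hc => ?_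
    rw [hT (c + 1) (Nat.succ_lt_succ (Finset.mem_range.1 hc)) (Nat.succ_pos c)]
  rw [h1, pow_zero, C_1, ← hT0]
  generalize (X - 1 : (AlgebraicClosure K)[X]) = A0
  generalize (∏ c ∈ Finset.range n, (X - C (ζ ^ (c + 1))) ^ b : (AlgebraicClosure K)[X]) = B
  ring

theorem cp_nine {a0 a b c : ℕ} (ha : 6 + a0 = a)
    {ζ : AlgebraicClosure K} (hζ : IsPrimitiveRoot ζ 9) {ι : Type} [Fintype ι] [DecidableEq ι] {A : Matrix ι ι K}
    (h : A.charpoly.map (algebraMap K (AlgebraicClosure K)) =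
        (X - 1) ^ 6 * ∏ i ∈ Finset.range 9, (X - C (ζ ^ i)) ^ ([a0, c, c, b, c, c, b, c, c].getD i 0)) :
    CPNine A a b c := by
  show A.charpoly * (X - 1) ^ b * (X ^ 3 - 1) ^ c = (X - 1) ^ a * (X ^ 3 - 1) ^ b * (X ^ 9 - 1) ^ c
  refine Polynomial.map_injective _ (algebraMap K (AlgebraicClosure K)).injective ?_
  simp only [Polynomial.map_mul, Polynomial.map_pow, Polynomial.map_sub, Polynomial.map_one, Polynomial.map_X]
  have hζ3 : IsPrimitiveRoot (ζ ^ 3) 3 := hζ.pow (by norm_num) (by norm_num)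
  rw [h, ← prod_range_root (by norm_num) hζ, ← prod_range_root (by norm_num) hζ3, ← ha]
  simp only [Finset.prod_range_succ, Finset.prod_range_zero, one_mul, ← pow_mul, List.getD_cons_succ,
    List.getD_cons_zero, pow_zero, C_1, Nat.mul_zero, Nat.mul_one]
  simp only [show 3 * 2 = 6 from rfl]
  generalize (X - 1 : (AlgebraicClosure K)[X]) = A0
  generalize (X - C (ζ ^ 1) : (AlgebraicClosure K)[X]) = A1
  generalize (X - C (ζ ^ 2) : (AlgebraicClosure K)[X]) = A2
  generalize (X - C (ζ ^ 3) : (AlgebraicClosure K)[X]) = A3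
  generalize (X - C (ζ ^ 4) : (AlgebraicClosure K)[X]) = A4
  generalize (X - C (ζ ^ 5) : (AlgebraicClosure K)[X]) = A5
  generalize (X - C (ζ ^ 6) : (AlgebraicClosure K)[X]) = A6
  generalize (X - C (ζ ^ 7) : (AlgebraicClosure K)[X]) = A7
  generalize (X - C (ζ ^ 8) : (AlgebraicClosure K)[X]) = A8
  simp only [mul_pow, pow_add]
  ring

variable [Fintype K]

/-- order 3 -/
theorem cp3 (hK : Fintype.card K = 4) {x : GL chevE6.Idx K} (hx : x ∈ twistedE6 K 2) (h : orderOf x = 3) :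
    ∃ ab ∈ ([(24, 27), (28, 25), (30, 24), (36, 21), (46, 16)] : List (ℕ × ℕ)),
      CP (x : Matrix chevE6.Idx chevE6.Idx K) 3 ab.1 ab.2 := by
  obtain ⟨T, hT, ζ, hζ, hd, hc⟩ := eig hK (N := 3) (by norm_num) (by norm_num) chk3 hx (by rw [← h]; exact pow_orderOf_eq_one x)
  simp only [List.mem_cons, List.not_mem_nil, or_false] at hT
  rcases hT with hT | hT | hT | hT | hT | hT
  · exact ⟨(24, 27), by simp, cp_prime (by norm_num) (by rw [hT]; decide) (by rw [hT]; rfl) hζ hc⟩
  · exact ⟨(28, 25), by simp, cp_prime (by norm_num) (by rw [hT]; decide) (by rw [hT]; rfl) hζ hc⟩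
  · exact ⟨(30, 24), by simp, cp_prime (by norm_num) (by rw [hT]; decide) (by rw [hT]; rfl) hζ hc⟩
  · exact ⟨(36, 21), by simp, cp_prime (by norm_num) (by rw [hT]; decide) (by rw [hT]; rfl) hζ hc⟩
  · exact ⟨(46, 16), by simp, cp_prime (by norm_num) (by rw [hT]; decide) (by rw [hT]; rfl) hζ hc⟩
  · exfalso
    subst hT
    have h1 : x ^ 1 = 1 := hd 1 fun c h1 h2 => by interval_cases c <;> simp at h2 ⊢
    rw [pow_one] at h1
    rw [h1, orderOf_one] at h
    omega

/-- order 5 -/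
theorem cp5 (hK : Fintype.card K = 4) {x : GL chevE6.Idx K} (hx : x ∈ twistedE6 K 2) (h : orderOf x = 5) :
    CP (x : Matrix chevE6.Idx chevE6.Idx K) 5 18 15 := by
  obtain ⟨T, hT, ζ, hζ, hd, hc⟩ := eig hK (N := 5) (by norm_num) (by norm_num) chk5 hx (by rw [← h]; exact pow_orderOf_eq_one x)
  simp only [List.mem_cons, List.not_mem_nil, or_false] at hT
  rcases hT with hT | hT
  · exact cp_prime (by norm_num) (by rw [hT]; decide) (by rw [hT]; rfl) hζ hc
  · exfalso
    subst hT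
    have h1 : x ^ 1 = 1 := hd 1 fun c h1 h2 => by interval_cases c <;> simp at h2 ⊢
    rw [pow_one] at h1
    rw [h1, orderOf_one] at h
    omega

/-- order 7 -/
theorem cp7 (hK : Fintype.card K = 4) {x : GL chevE6.Idx K} (hx : x ∈ twistedE6 K 2) (h : orderOf x = 7) :
    ∃ ab ∈ ([(12, 11), (18, 10), (30, 8)] : List (ℕ × ℕ)),
      CP (x : Matrix chevE6.Idx chevE6.Idx K) 7 ab.1 ab.2 := by
  obtain ⟨T, hT, ζ, hζ, hd, hc⟩ := eig hK (N := 7) (by norm_num) (by norm_num) chk7 hx (by rw [← h]; exact pow_orderOf_eq_one x)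
  simp only [List.mem_cons, List.not_mem_nil, or_false] at hT
  rcases hT with hT | hT | hT | hT
  · exact ⟨(12, 11), by simp, cp_prime (by norm_num) (by rw [hT]; decide) (by rw [hT]; rfl) hζ hc⟩
  · exact ⟨(18, 10), by simp, cp_prime (by norm_num) (by rw [hT]; decide) (by rw [hT]; rfl) hζ hc⟩
  · exact ⟨(30, 8), by simp, cp_prime (by norm_num) (by rw [hT]; decide) (by rw [hT]; rfl) hζ hc⟩
  · exfalso
    subst hT
    have h1 : x ^ 1 = 1 := hd 1 fun c h1 h2 => by interval_cases c <;> simp at h2 ⊢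
    rw [pow_one] at h1
    rw [h1, orderOf_one] at h
    omega

/-- order 9 -/
theorem cp9 (hK : Fintype.card K = 4) {x : GL chevE6.Idx K} (hx : x ∈ twistedE6 K 2) (h : orderOf x = 9) :
    ∃ ab ∈ ([(8, 8), (10, 7), (14, 5)] : List (ℕ × ℕ)),
      CPNine (x : Matrix chevE6.Idx chevE6.Idx K) ab.1 ab.2 9 := by
  obtain ⟨T, hT, ζ, hζ, hd, hc⟩ := eig hK (N := 9) (by norm_num) (by norm_num) chk9 hx (by rw [← h]; exact pow_orderOf_eq_one x)
  simp only [List.mem_cons, List.not_mem_nil, or_false] at hT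
  have bad : ∀ a b : ℕ, T = [a, 0, 0, b, 0, 0, b, 0, 0] → False := by
    rintro a b rfl
    have h1 : x ^ 3 = 1 := hd 3 fun c h1 h2 => by
      interval_cases c
      · norm_num
      · simp at h2
      · simp at h2
      · norm_num
      · simp at h2
      · simp at h2
      · norm_num
      · simp at h2
      · simp at h2
    have h2 := orderOf_dvd_of_pow_eq_one h1
    rw [h] at h2
    omega
  rcases hT with hT | hT | hT | hT | hT | hT | hT | hT | hT
  · exact ⟨(8, 8), by simp, by rw [hT] at hc; exact cp_nine (a0 := 2) (a := 8) (b := 8) (c := 9) rfl hζ hc⟩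
  · exact ⟨(10, 7), by simp, by rw [hT] at hc; exact cp_nine (a0 := 4) (a := 10) (b := 7) (c := 9) rfl hζ hc⟩
  · exact ⟨(14, 5), by simp, by rw [hT] at hc; exact cp_nine (a0 := 8) (a := 14) (b := 5) (c := 9) rfl hζ hc⟩
  all_goals exact (bad _ _ hT).elim

/-- order 11 -/
theorem cp11 (hK : Fintype.card K = 4) {x : GL chevE6.Idx K} (hx : x ∈ twistedE6 K 2) (h : orderOf x = 11) :
    CP (x : Matrix chevE6.Idx chevE6.Idx K) 11 8 7 := by
  obtain ⟨T, hT, ζ, hζ, hd, hc⟩ := eig hK (N := 11) (by norm_num) (by norm_num) chk11 hx (by rw [← h]; exact pow_orderOf_eq_one x)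
  simp only [List.mem_cons, List.not_mem_nil, or_false] at hT
  rcases hT with hT | hT
  · exact cp_prime (by norm_num) (by rw [hT]; decide) (by rw [hT]; rfl) hζ hc
  · exfalso
    subst hT
    have h1 : x ^ 1 = 1 := hd 1 fun c h1 h2 => by interval_cases c <;> simp at h2 ⊢
    rw [pow_one] at h1
    rw [h1, orderOf_one] at h
    omega

/-- order 13 -/
theorem cp13 (hK : Fintype.card K = 4) {x : GL chevE6.Idx K} (hx : x ∈ twistedE6 K 2) (h : orderOf x = 13) :
    CP (x : Matrix chevE6.Idx chevE6.Idx K) 13 6 6 := by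
  obtain ⟨T, hT, ζ, hζ, hd, hc⟩ := eig hK (N := 13) (by norm_num) (by norm_num) chk13 hx (by rw [← h]; exact pow_orderOf_eq_one x)
  simp only [List.mem_cons, List.not_mem_nil, or_false] at hT
  rcases hT with hT | hT
  · exact cp_prime (by norm_num) (by rw [hT]; decide) (by rw [hT]; rfl) hζ hc
  · exfalso
    subst hT
    have h1 : x ^ 1 = 1 := hd 1 fun c h1 h2 => by interval_cases c <;> simp at h2 ⊢
    rw [pow_one] at h1
    rw [h1, orderOf_one] at h
    omega

/-- order 19 -/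
theorem cp19 (hK : Fintype.card K = 4) {x : GL chevE6.Idx K} (hx : x ∈ twistedE6 K 2) (h : orderOf x = 19) :
    CP (x : Matrix chevE6.Idx chevE6.Idx K) 19 6 4 := by
  obtain ⟨T, hT, ζ, hζ, hd, hc⟩ := eig hK (N := 19) (by norm_num) (by norm_num) chk19 hx (by rw [← h]; exact pow_orderOf_eq_one x)
  simp only [L19, List.mem_cons, List.not_mem_nil, or_false] at hT
  rcases hT with hT | hT
  · exact cp_prime (by norm_num) (by rw [hT]; decide) (by rw [hT]; rfl) hζ hc
  · exfalso
    subst hT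
    have h1 : x ^ 1 = 1 := hd 1 fun c h1 h2 => by interval_cases c <;> simp at h2 ⊢
    rw [pow_one] at h1
    rw [h1, orderOf_one] at h
    omega

end Cfsg.Agent.H944.TS.Eig
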