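import Mathlib
import Cfsg.Agent.H944.Tab

/-!
# Eigenvalues of the elements of odd order of `²E₆(2)` on the 78-dimensional module (helper944)
-/

set_option autoImplicit false
set_option linter.unusedSectionVars false
set_option maxRecDepth 100000

namespace Cfsg.Agent.H944.TS.Eig

open Cfsg.Agent.ChevalleyStructure.CoxeterGeom Cfsg.Agent.Tits.Roots
  Cfsg.Agent.Nodes.RGDChev
open Cfsg.Lie Cfsg.Agent.ChevalleyStructure Cfsg.Agent.ChevalleyStructure.Elts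
  Cfsg.Agent.ChevalleyStructure.RootVec Cfsg.Agent.ChevalleyStructure.RootVecTab
  Cfsg.Agent.ChevalleyStructure.NPerm Cfsg.Agent.ChevalleyStructure.CoxeterGeomTypes
open Cfsg.Agent.H944.RootVals Cfsg.Agent.H944.Kac Cfsg.Agent.H944.Tab Polynomial

universe u

/-- The positive roots of `E₆`. -/
def R6 : List (List ℕ) :=
  [[0, 0, 0, 0, 0, 1], [0, 0, 0, 0, 1, 0], [0, 0, 0, 0, 1, 1], [0, 0, 0, 1, 0, 0], [0, 0, 0, 1, 1, 0], [0, 0,
   0, 1, 1, 1], [0, 0, 1, 0, 0, 0], [0, 0, 1, 1, 0, 0], [0, 0, 1, 1, 1, 0], [0, 0, 1, 1, 1, 1], [0, 1, 0, 0,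
   0, 0], [0, 1, 0, 1, 0, 0], [0, 1, 0, 1, 1, 0], [0, 1, 0, 1, 1, 1], [0, 1, 1, 1, 0, 0], [0, 1, 1, 1, 1, 0],
   [0, 1, 1, 1, 1, 1], [0, 1, 1, 2, 1, 0], [0, 1, 1, 2, 1, 1], [0, 1, 1, 2, 2, 1], [1, 0, 0, 0, 0, 0], [1, 0,
   1, 0, 0, 0], [1, 0, 1, 1, 0, 0], [1, 0, 1, 1, 1, 0], [1, 0, 1, 1, 1, 1], [1, 1, 1, 1, 0, 0], [1, 1, 1, 1,
   1, 0], [1, 1, 1, 1, 1, 1], [1, 1, 1, 2, 1, 0], [1, 1, 1, 2, 1, 1], [1, 1, 1, 2, 2, 1], [1, 1, 2, 2, 1, 0],
   [1, 1, 2, 2, 1, 1], [1, 1, 2, 2, 2, 1], [1, 1, 2, 3, 2, 1], [1, 2, 2, 3, 2, 1]]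

/-- The highest root of `E₆`. -/
def th6 : List ℕ := [1, 2, 2, 3, 2, 1]

theorem tab6 : chkTab chevE6 6 R6 = true := by decide +kernel

theorem len6 : ∀ r ∈ R6, r.length ≤ 6 := by decide +kernel

theorem theta6 : ∀ i : Fin 6, ∑ s : Fin chevE6.nroots, (∑ k, vec chevE6 6 s k * (![0, 1, 0, 0, 0, 0] : Fin 6 → ℤ) k) *
    vec chevE6 6 s i = 24 * (![1, 2, 2, 3, 2, 1] : Fin 6 → ℤ) i := by decide +kernel

theorem pos6 : ∀ j : Fin 6, 0 < ∑ i, cartanOf chevE6 6 j i *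
    ∑ s ∈ (Finset.univ : Finset (Fin chevE6.nroots)).filter (fun s : Fin chevE6.nroots => 36 ≤ (s : ℕ)), vec chevE6 6 s i := by
  decide +kernel

theorem e6T : IsType chevE6 6 CoxeterMatrix.E₆ := by simp [IsType, typeList]

/-- The number of roots with the value `c` modulo `N`. -/
def cntN (N c : ℕ) (y : List ℕ) : ℕ :=
  sumH (fun t => (if t % N = c then 1 else 0) + (if (N - t % N) % N = c then 1 else 0)) R6 y

/-- The table of the values. -/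
def chkT (N : ℕ) (L : List (List ℕ)) (y : List ℕ) : Bool :=
  L.any fun T => (List.range N).all fun c => Nat.beq (cntN N c y) (T.getD c 0)

/-- The check: the invariant vectors of the alcove have a value table in `L`. -/
def chkA (N : ℕ) (L : List (List ℕ)) : Bool :=
  allAlc th6 N fun y => bif invB N 2 R6 y then chkT N L y else true

end Cfsg.Agent.H944.TS.Eig
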