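import Mathlib
import Cfsg.Agent.H944.TS.EigTab
import Cfsg.Agent.H944.TS.RVCP
import Cfsg.Agent.BpExc.FamTwSix
import Cfsg.Agent.ChevalleyStructure.TwE6Basic

/-!
# Eigenvalues of the elements of odd order of `²E₆(2)` on the 78-dimensional module (helper944)
-/

set_option autoImplicit false
set_option linter.unusedSectionVars false
set_option maxRecDepth 100000

namespace Cfsg.Agent.H944.TS.Eig

open Cfsg.Agent.ChevalleyStructure.CoxeterGeom Cfsg.Agent.Tits.Roots
  Cfsg.Agent.Nodes.RGDChev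
open Cfsg.Lie Cfsg.Agent.ChevalleyStructure Cfsg.Agent.ChevalleyStructure.Elts
  Cfsg.Agent.ChevalleyStructure.RootVec Cfsg.Agent.ChevalleyStructure.RootVecTab
  Cfsg.Agent.ChevalleyStructure.NPerm Cfsg.Agent.ChevalleyStructure.CoxeterGeomTypes
open Cfsg.Agent.H944.RootVals Cfsg.Agent.H944.Kac Cfsg.Agent.H944.Tab Polynomial

universe u

theorem count_eq_sum {α : Type*} [DecidableEq α] (m : Multiset α) (c : α) :
    m.count c = (m.map (fun a => if a = c then 1 else 0)).sum := by
  induction m using Multiset.induction_on with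
  | empty => simp
  | cons a m ih =>
    rw [Multiset.map_cons, Multiset.sum_cons, Multiset.count_cons, ih, add_comm]
    congr 1
    exact if_congr eq_comm rfl rfl

theorem count_ms {D : ChevalleyDatum} {l N : ℕ} (hN : 0 < N) {R : List (List ℕ)} (hR : chkTab D l R = true)
    (hRl : ∀ r ∈ R, r.length ≤ l) (Y : List ℕ) (c : ZMod N) :
    (ms D l (fun i : Fin l => ((Y.getD i 0 : ℕ) : ZMod N))).count c =
      sumH (fun t => (if t % N = c.val then 1 else 0) + (if (N - t % N) % N = c.val then 1 else 0)) R Y := by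
  have : NeZero N := ⟨hN.ne'⟩
  rw [count_eq_sum, sum_ms hR, sumH_eq]
  congr 1
  refine List.map_congr_left fun r hr => ?_
  have h7 : dotF r (fun i : Fin l => ((Y.getD i 0 : ℕ) : ZMod N)) = ((dotN r Y : ℕ) : ZMod N) := by
    rw [dotN_eq l r Y (hRl r hr)]
    unfold dotF
    push_cast
    rfl
  rw [h7]
  congr 1
  · refine if_congr ?_ rfl rfl
    rw [← mod_iff _ (ZMod.val_lt c), ZMod.natCast_zmod_val]
  · refine if_congr ?_ rfl rfl
    rw [← neg_mod_iff hN _ (ZMod.val_lt c), ZMod.natCast_zmod_val]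

theorem prod_zmod {R : Type*} [CommMonoid R] {N : ℕ} (hN : 0 < N) (f : ℕ → R) :
    haveI : NeZero N := ⟨hN.ne'⟩
    ∏ a : ZMod N, f a.val = ∏ c ∈ Finset.range N, f c := by
  obtain ⟨n, rfl⟩ := Nat.exists_eq_succ_of_ne_zero hN.ne'
  rw [Finset.prod_range]
  rfl

theorem prod_of_count {R : Type*} [CommMonoid R] {N : ℕ} (hN : 0 < N) (m : Multiset (ZMod N)) (f : ℕ → R)
    (T : List ℕ) (h : ∀ c : ZMod N, m.count c = T.getD c.val 0) :
    (m.map (fun a : ZMod N => f a.val)).prod = ∏ c ∈ Finset.range N, f c ^ (T.getD c 0) := by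
  classical
  have : NeZero N := ⟨hN.ne'⟩
  rw [Finset.prod_multiset_map_count, ← prod_zmod hN (fun c => f c ^ (T.getD c 0))]
  rw [Finset.prod_subset (Finset.subset_univ _)]
  · refine Finset.prod_congr rfl fun a _ => ?_
    rw [h]
  · intro a _ ha
    rw [Multiset.mem_toFinset, ← Multiset.count_eq_zero] at ha
    rw [ha, pow_zero]

theorem simple_mem_ms {D : ChevalleyDatum} {l : ℕ} {M : CoxeterMatrix (Fin l)} (hp : IsType D l M)
    {R : Type*} [CommRing R] (v : Fin l → R) (i : Fin l) : v i ∈ ms D l v := by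
  unfold ms
  rw [Multiset.mem_map]
  have hlt := NPerm.simple_lt hp.inList (lt_rank hp i)
  refine ⟨⟨D.simple i, hlt⟩, Finset.mem_univ_val _, ?_⟩
  show ∑ k, (vec D l (D.simple i) k : R) * v k = v i
  rw [vec_simple hp i, Finset.sum_eq_single i]
  · rw [sr_self, Int.cast_one, one_mul]
  · intro k _ hik
    rw [sr_ne hik, Int.cast_zero, zero_mul]
  · intro h
    exact absurd (Finset.mem_univ i) h

theorem rank_E6 : chevE6.rank = 6 := rfl

variable {K : Type u} [Field K] [Fintype K]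

/-- The characteristic polynomial of an element of `²E₆(2)` is fixed by the Frobenius map. -/
theorem charpoly_frob (hK : Fintype.card K = 4) [CharP K 2] {x : GL chevE6.Idx K} (hx : x ∈ twistedE6 K 2) :
    (x : Matrix chevE6.Idx chevE6.Idx K).charpoly.map (iterateFrobenius K 2 1) =
      (x : Matrix chevE6.Idx chevE6.Idx K).charpoly := by
  have : Fact (Nat.Prime 2) := ⟨Nat.prime_two⟩
  have hφ : ∀ t : K, iterateFrobenius K 2 1 t = t ^ 2 := fun t => by
    rw [iterateFrobenius_def, pow_one]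
  have hqq : ∀ t : K, (t ^ 2) ^ 2 = t := fun t => by
    rw [← pow_mul]
    have := FiniteField.pow_card t
    rwa [hK] at this
  have h1 := TwE6Basic.twisted_le_fix (iterateFrobenius K 2 1) hφ hqq hx
  rw [TwE6Basic.mem_fix] at h1
  have h2 := congrArg (fun g : GL chevE6.Idx K => (g : Matrix chevE6.Idx chevE6.Idx K).charpoly) h1
  have h3 : TwE6Basic.sg (iterateFrobenius K 2 1) x = GraphSymm.symmE6.P K *
    Matrix.GeneralLinearGroup.map (iterateFrobenius K 2 1) x * (GraphSymm.symmE6.P K)⁻¹ := rfl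
  simp only [h3] at h2
  rw [Units.val_mul, Units.val_mul, Matrix.coe_units_inv, Matrix.charpoly_units_conj] at h2
  rw [← Matrix.charpoly_map]
  exact h2

/-- **Eigenvalues.** -/
theorem eig (hK : Fintype.card K = 4) {N : ℕ} (hN : 0 < N) (hodd : N.Coprime 2) {L : List (List ℕ)}
    (hL : chkA N L = true) {x : GL chevE6.Idx K} (hx : x ∈ twistedE6 K 2) (hxN : x ^ N = 1) :
    ∃ T ∈ L, ∃ ζ : AlgebraicClosure K, IsPrimitiveRoot ζ N ∧
      (∀ d : ℕ, (∀ c < N, T.getD c 0 ≠ 0 → N ∣ d * c) → x ^ d = 1) ∧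
      (x : Matrix chevE6.Idx chevE6.Idx K).charpoly.map (algebraMap K (AlgebraicClosure K)) =
        (X - 1) ^ 6 * ∏ c ∈ Finset.range N, (X - C (ζ ^ c)) ^ (T.getD c 0) := by
  classical
  have : Fact (Nat.Prime 2) := ⟨Nat.prime_two⟩
  have : NeZero N := ⟨hN.ne'⟩
  have hch : CharP K 2 := by
    obtain ⟨p, hp⟩ := CharP.exists K
    have hp2 : p ∣ 2 ^ 2 := by
      have h0 := FiniteField.cast_card_eq_zero K
      rw [hK] at h0
      exact (CharP.cast_eq_zero_iff K p (2 ^ 2)).1 (by exact_mod_cast h0)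
    have hpp : p.Prime := (CharP.char_is_prime_or_zero K p).resolve_right (CharP.char_ne_zero_of_finite K p)
    have : p = 2 := (Nat.prime_dvd_prime_iff_eq hpp Nat.prime_two).1 (hpp.dvd_of_dvd_pow hp2)
    rwa [this] at hp
  let y : ↥(chevE6.group K) := ⟨x, Cfsg.Agent.BpExc.FamTw.Six.twisted_le_group 2 hx⟩
  have hyN : y ^ N = 1 := Subtype.ext hxN
  obtain ⟨v, ζ, hζ, hord, hinv, hcp⟩ := Cfsg.Agent.H944.TS.RVCP.exists_vals_cp e6T 2 (F := K) hN.ne' hodd hyN
  have hinv' := hinv 1 (charpoly_frob hK hx)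
  rw [pow_one] at hinv'
  let P : (Fin 6 → ZMod N) → Prop := fun w => ms chevE6 6 w = ms chevE6 6 v
  have hPs : ∀ w j, P w → P (srefl chevE6 6 j w) := by
    intro w j hw
    show ms chevE6 6 (srefl chevE6 6 j w) = _
    rw [ms_srefl e6T]
    exact hw
  obtain ⟨z, hz, hθ⟩ := exists_alcove e6T (N := N) hN _ _ 24 (by norm_num) theta6
    (by decide) _ pos6 P hPs (v₀ := v) rfl
  let Y : List ℕ := List.ofFn z
  have hY : ∀ i : Fin 6, Y.getD i 0 = z i := by
    intro i
    rw [List.getD_eq_getElem _ _ (by rw [List.length_ofFn]; exact i.2), List.getElem_ofFn]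
  have h1 : dotN th6 Y ≤ N := by
    rw [dotN_eq 6 th6 Y (by decide)]
    have h2 : ∑ i : Fin 6, th6.getD i 0 * Y.getD i 0 = ∑ i : Fin 6, th6.getD i 0 * z i :=
      Finset.sum_congr rfl fun i _ => by rw [hY]
    rw [h2]
    simp only [Fin.sum_univ_six, Matrix.cons_val] at hθ ⊢
    simp only [th6, List.getD_cons_zero, List.getD_cons_succ] at hθ ⊢
    norm_num at hθ ⊢
    omega
  have h2 := allAlc_spec th6 N _ (by decide) hL Y (by simp [Y, th6]) h1
  have h3 : (fun i : Fin 6 => ((Y.getD i 0 : ℕ) : ZMod N)) = fun i => (z i : ZMod N) := by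
    funext i
    rw [hY]
  have hPz : ms chevE6 6 (fun i : Fin 6 => ((Y.getD i 0 : ℕ) : ZMod N)) = ms chevE6 6 v := by
    rw [h3]; exact hz
  have h4 : invB N 2 R6 Y = true := by
    refine invB_of hN tab6 len6 ?_
    rw [hPz]
    exact hinv'
  rw [h4, cond_true, chkT, List.any_eq_true] at h2
  obtain ⟨T, hT, hT2⟩ := h2
  rw [List.all_eq_true] at hT2
  have hcount : ∀ c : ZMod N, (ms chevE6 6 v).count c = T.getD c.val 0 := by
    intro c
    have h5 := hT2 c.val (List.mem_range.2 (ZMod.val_lt c))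
    rw [Nat.beq_eq] at h5
    rw [← h5, ← hPz]
    exact count_ms hN tab6 len6 Y c
  refine ⟨T, hT, ζ, hζ, fun d hd => ?_, ?_⟩
  · have h5 : y ^ d = 1 := by
      rw [← hord]
      intro i
      have h6 : v i ∈ ms chevE6 6 v := simple_mem_ms e6T v i
      have h7 : T.getD (v i).val 0 ≠ 0 := by
        rw [← hcount]
        exact (Multiset.count_pos.2 h6).ne'
      have h8 := hd _ (ZMod.val_lt _) h7
      rw [← ZMod.natCast_zmod_val (v i), ← Nat.cast_mul, ZMod.natCast_eq_zero_iff]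
      exact h8
    exact congrArg Subtype.val h5
  · rw [hcp, rank_E6, prod_of_count hN _ (fun c => X - C (ζ ^ c)) T hcount]

end Cfsg.Agent.H944.TS.Eig
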