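import Cfsg.Agent.H944.TS.Iface
import Cfsg.Agent.OrdDiv.Table
import Cfsg.Agent.H816.TwoOrd
import Cfsg.Agent.H14.KnownSimple
import Cfsg.Agent.S0252
import Cfsg.Agent.S0253
import Cfsg.Agent.S0254
import Cfsg.Agent.S0255
import Cfsg.Agent.S0256
import Cfsg.Agent.S0822
import Cfsg.Agent.S2550
import Cfsg.Agent.BabyU.CentT1
import Cfsg.Agent.H902.Iso

/-!
# S5741: the assembly from the rows (helper944)
-/

set_option autoImplicit false

namespace Cfsg.Agent.H944.TS.Asm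

open Cfsg Cfsg.Agent.OrdDiv Cfsg.Agent.H816.TwoOrd

universe u

/-! ### orders -/

theorem card_psl {F : Type} [Field F] [Fintype F] {n : ℕ} (hn : 2 ≤ n) (hn2 : n = 2 → 4 ≤ Fintype.card F) :
    Nat.card (Matrix.ProjectiveSpecialLinearGroup (Fin n) F) = ordN (.psl n (Fintype.card F)) := by
  obtain ⟨l, hl⟩ := exists_valid (N := Nat.card (Matrix.ProjectiveSpecialLinearGroup (Fin n) F)) Nat.card_pos.ne'
  exact (psl_mem hl hn hn2 dvd_rfl).2

theorem card_psp {F : Type} [Field F] [Fintype F] {m : ℕ} (hm : 2 ≤ m) (hm2 : m = 2 → 3 ≤ Fintype.card F) :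
    Nat.card (PSp m F) = ordN (.psp m (Fintype.card F)) := by
  obtain ⟨l, hl⟩ := exists_valid (N := Nat.card (PSp m F)) Nat.card_pos.ne'
  exact (psp_mem hl hm hm2 dvd_rfl).2

theorem card_psu {F : Type} [Field F] [Fintype F] {n q : ℕ} (hF : Fintype.card F = q ^ 2) (hn : 3 ≤ n)
    (hn2 : ¬ (n = 3 ∧ q = 2)) : Nat.card (PSU n F q) = ordN (.psu n q) := by
  obtain ⟨l, hl⟩ := exists_valid (N := Nat.card (PSU n F q)) Nat.card_pos.ne'
  exact (psu_mem hl hF hn hn2 dvd_rfl).2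

theorem card_oodd {F : Type} [Field F] [Fintype F] {m : ℕ} (hm : 3 ≤ m) (ho : Odd (Fintype.card F)) :
    Nat.card (POmega F (quadFormOdd m F)) = ordN (.oodd m (Fintype.card F)) := by
  obtain ⟨l, hl⟩ := exists_valid (N := Nat.card (POmega F (quadFormOdd m F))) Nat.card_pos.ne'
  exact (oodd_mem hl hm ho dvd_rfl).2

theorem card_oplus {F : Type} [Field F] [Fintype F] {m : ℕ} (hm : 4 ≤ m) :
    Nat.card (POmega F (quadFormPlus m F)) = ordN (.oplus m (Fintype.card F)) := by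
  obtain ⟨l, hl⟩ := exists_valid (N := Nat.card (POmega F (quadFormPlus m F))) Nat.card_pos.ne'
  exact (oplus_mem hl hm dvd_rfl).2

theorem card_ominus {F : Type} [Field F] [Fintype F] {m : ℕ} (hm : 4 ≤ m) {a b : F}
    (hab : ∀ z₁ z₂ : F, z₁ ^ 2 + a * z₁ * z₂ + b * z₂ ^ 2 = 0 → z₁ = 0 ∧ z₂ = 0) :
    Nat.card (POmega F (quadFormMinus (m - 1) F a b)) = ordN (.ominus m (Fintype.card F)) := by
  obtain ⟨l, hl⟩ := exists_valid (N := Nat.card (POmega F (quadFormMinus (m - 1) F a b))) Nat.card_pos.ne'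
  exact (ominus_mem hl hm hab dvd_rfl).2

variable {S : Type u} [Group S]

theorem alt_row {n : ℕ} (hn : 5 ≤ n) (h : Real (.alt n) S) : IsSimpleGroup S ∧ Nat.card S = ordN (.alt n) := by
  obtain ⟨e⟩ := h
  refine ⟨H14.KnownSimple.alt ⟨n, hn, ⟨e⟩⟩, ?_⟩
  have h1 := alt_card hn e
  show Nat.card S = n.factorial / 2
  omega

theorem psl_row {n q : ℕ} (hn : 2 ≤ n) (hn2 : n = 2 → 4 ≤ q) (h : Real (.psl n q) S) :
    IsSimpleGroup S ∧ Nat.card S = ordN (.psl n q) := by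
  obtain ⟨F, i1, i2, rfl, ⟨e⟩⟩ := h
  exact ⟨H14.KnownSimple.psl ⟨F, i1, i2, n, hn, hn2, ⟨e⟩⟩, by rw [Nat.card_congr e.toEquiv, card_psl hn hn2]⟩

theorem psp_row {m q : ℕ} (hm : 2 ≤ m) (hm2 : m = 2 → 3 ≤ q) (h : Real (.psp m q) S) :
    IsSimpleGroup S ∧ Nat.card S = ordN (.psp m q) := by
  obtain ⟨F, i1, i2, rfl, ⟨e⟩⟩ := h
  exact ⟨H14.KnownSimple.psp ⟨F, i1, i2, m, hm, hm2, ⟨e⟩⟩, by rw [Nat.card_congr e.toEquiv, card_psp hm hm2]⟩

theorem psu_row {n q : ℕ} (hn : 3 ≤ n) (hn2 : ¬ (n = 3 ∧ q = 2)) (h : Real (.psu n q) S) :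
    IsSimpleGroup S ∧ Nat.card S = ordN (.psu n q) := by
  obtain ⟨F, i1, i2, hF, ⟨e⟩⟩ := h
  exact ⟨H14.KnownSimple.psu ⟨F, i1, i2, n, q, hF, hn, hn2, ⟨e⟩⟩, by rw [Nat.card_congr e.toEquiv, card_psu hF hn hn2]⟩

theorem oodd_row {m q : ℕ} (hm : 3 ≤ m) (hq : Odd q) (h : Real (.oodd m q) S) :
    IsSimpleGroup S ∧ Nat.card S = ordN (.oodd m q) := by
  obtain ⟨F, i1, i2, rfl, ⟨e⟩⟩ := h
  exact ⟨H14.KnownSimple.omegaOdd ⟨F, i1, i2, m, hm, hq, ⟨e⟩⟩, by rw [Nat.card_congr e.toEquiv, card_oodd hm hq]⟩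

theorem oplus_row {m q : ℕ} (hm : 4 ≤ m) (h : Real (.oplus m q) S) :
    IsSimpleGroup S ∧ Nat.card S = ordN (.oplus m q) := by
  obtain ⟨F, i1, i2, rfl, ⟨e⟩⟩ := h
  exact ⟨H14.KnownSimple.omegaPlus ⟨F, i1, i2, m, hm, ⟨e⟩⟩, by rw [Nat.card_congr e.toEquiv, card_oplus hm]⟩

theorem ominus_row {m q : ℕ} (hm : 4 ≤ m) (h : Real (.ominus m q) S) :
    IsSimpleGroup S ∧ Nat.card S = ordN (.ominus m q) := by
  obtain ⟨F, i1, i2, a, b, rfl, hab, ⟨e⟩⟩ := h
  exact ⟨H14.KnownSimple.omegaMinus ⟨F, i1, i2, m, a, b, hm, hab, ⟨e⟩⟩,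
    by rw [Nat.card_congr e.toEquiv, card_ominus hm hab]⟩

theorem spor_row {g : Grp} (hg : g ∈ spor.map fun x => x.1) (h : Real g S) : Nat.card S = ordN g := by
  obtain ⟨x, hx, rfl⟩ := List.mem_map.1 hg
  rw [table_spor S x hx h, spor_ord x hx]

theorem g2_row {q : ℕ} (hq : 3 ≤ q) (h : Real (.g2 q) S) : IsSimpleGroup S ∧ Nat.card S = ordN (.g2 q) := by
  obtain ⟨F, i1, i2, rfl, ⟨e⟩⟩ := h
  refine ⟨H14.KnownSimple.exceptional (Or.inl ⟨F, i1, i2, hq, ⟨e⟩⟩), ?_⟩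
  rw [Nat.card_congr e.toEquiv]
  obtain ⟨l, hl⟩ := exists_valid (N := Nat.card ↥(Lie.chevG2.group F)) Nat.card_pos.ne'
  obtain ⟨-, h2⟩ : (0, Fintype.card F) ∈ cand l (Nat.card ↥(Lie.chevG2.group F)) fG2 ∧ _ :=
    one_mem hl (by norm_num) Fintype.isPrimePow_card_of_field (by rw [Nat.ble_eq]; exact hq)
      (by rw [table.{0}.g2 F]; ring) (Nat.coprime_one_left _) dvd_rfl
  exact h2

theorem f4_row {q : ℕ} (h : Real (.f4 q) S) : IsSimpleGroup S ∧ Nat.card S = ordN (.f4 q) := by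
  obtain ⟨F, i1, i2, rfl, ⟨e⟩⟩ := h
  refine ⟨H14.KnownSimple.exceptional (Or.inr (Or.inl ⟨F, i1, i2, ⟨e⟩⟩)), ?_⟩
  rw [Nat.card_congr e.toEquiv]
  obtain ⟨l, hl⟩ := exists_valid (N := Nat.card ↥(Lie.chevF4.group F)) Nat.card_pos.ne'
  obtain ⟨-, h2⟩ : (0, Fintype.card F) ∈ cand l (Nat.card ↥(Lie.chevF4.group F)) fF4 ∧ _ :=
    one_mem hl (by norm_num) Fintype.isPrimePow_card_of_field rfl
      (by rw [table.{0}.f4 F _ rfl]; ring) (Nat.coprime_one_left _) dvd_rfl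
  exact h2

theorem td4_row {q : ℕ} (hq : IsPrimePow q) (h : Real (.td4 q) S) : IsSimpleGroup S ∧ Nat.card S = ordN (.td4 q) := by
  obtain ⟨F, i1, i2, hF, ⟨e⟩⟩ := h
  refine ⟨H14.KnownSimple.exceptional (Or.inr (Or.inr (Or.inr (Or.inr (Or.inr (Or.inr (Or.inl
    ⟨F, i1, i2, q, hq, hF, ⟨e⟩⟩))))))), ?_⟩
  rw [Nat.card_congr e.toEquiv]
  obtain ⟨l, hl⟩ := exists_valid (N := Nat.card ↥(Lie.twistedD4 F q)) Nat.card_pos.ne'
  obtain ⟨-, h2⟩ : (0, q) ∈ cand l (Nat.card ↥(Lie.twistedD4 F q)) fTD4 ∧ _ :=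
    one_mem hl (by norm_num) hq rfl (by rw [table.{0}.td4 F q hq hF]; ring) (Nat.coprime_one_left _) dvd_rfl
  exact h2

/-- the 39 groups -/
def emb : List Grp :=
  [.alt 5, .alt 6, .alt 7, .alt 8, .alt 9, .alt 10, .alt 11, .alt 12,
   .psl 2 7, .psl 2 8, .psl 2 11, .psl 2 13, .psl 2 16, .psl 2 17, .psl 2 25, .psl 3 3, .psl 3 4, .psl 4 3,
   .psp 2 4, .psp 3 2, .psp 4 2, .psu 3 3, .psu 3 8, .psu 4 2, .psu 4 3, .psu 5 2, .psu 6 2,
   .oplus 4 2, .ominus 4 2, .ominus 5 2, .oodd 3 3, .g2 3, .td4 2, .f4 2, .tits, .m11, .m12, .m22, .fi22]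

/-- the other simple groups whose order divides the order of `²E₆(2)` -/
def nots : List Grp :=
  [.psl 2 19, .psl 2 27, .psl 2 49, .psl 2 64, .psl 3 9, .psl 3 16, .psl 4 4, .psp 2 8, .psp 3 3, .psu 3 4, .psu 4 8,
   .sz 8, .g2 4, .j1, .j2, .j3, .suz, .alt 13, .alt 14]

/-- the other names of embedded groups -/
def aliases : List Grp := [.psl 2 4, .psl 2 5, .psl 2 9, .psl 3 2, .psl 4 2, .psp 2 3]

theorem length_emb : emb.length = 39 := rfl

theorem row {g : Grp} (hg : g ∈ emb) (h : Real g S) : IsSimpleGroup S ∧ Nat.card S = ordN g := by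
  simp only [emb, List.mem_cons, List.not_mem_nil, or_false] at hg
  rcases hg with rfl | rfl | rfl | rfl | rfl | rfl | rfl | rfl | rfl | rfl | rfl | rfl | rfl | rfl | rfl | rfl | rfl |
    rfl | rfl | rfl | rfl | rfl | rfl | rfl | rfl | rfl | rfl | rfl | rfl | rfl | rfl | rfl | rfl | rfl | rfl | rfl |
    rfl | rfl | rfl
  · exact alt_row (by norm_num) h
  · exact alt_row (by norm_num) h
  · exact alt_row (by norm_num) h
  · exact alt_row (by norm_num) h
  · exact alt_row (by norm_num) h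
  · exact alt_row (by norm_num) h
  · exact alt_row (by norm_num) h
  · exact alt_row (by norm_num) h
  · exact psl_row (by norm_num) (by norm_num) h
  · exact psl_row (by norm_num) (by norm_num) h
  · exact psl_row (by norm_num) (by norm_num) h
  · exact psl_row (by norm_num) (by norm_num) h
  · exact psl_row (by norm_num) (by norm_num) h
  · exact psl_row (by norm_num) (by norm_num) h
  · exact psl_row (by norm_num) (by norm_num) h
  · exact psl_row (by norm_num) (by norm_num) h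
  · exact psl_row (by norm_num) (by norm_num) h
  · exact psl_row (by norm_num) (by norm_num) h
  · exact psp_row (by norm_num) (by norm_num) h
  · exact psp_row (by norm_num) (by norm_num) h
  · exact psp_row (by norm_num) (by norm_num) h
  · exact psu_row (by norm_num) (by norm_num) h
  · exact psu_row (by norm_num) (by norm_num) h
  · exact psu_row (by norm_num) (by norm_num) h
  · exact psu_row (by norm_num) (by norm_num) h
  · exact psu_row (by norm_num) (by norm_num) h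
  · exact psu_row (by norm_num) (by norm_num) h
  · exact oplus_row (by norm_num) h
  · exact ominus_row (by norm_num) h
  · exact ominus_row (by norm_num) h
  · exact oodd_row (by norm_num) (by decide) h
  · exact g2_row (by norm_num) h
  · exact td4_row Nat.prime_two.isPrimePow h
  · exact f4_row h
  · exact ⟨H14.KnownSimple.isSimpleGroup (by
      refine Or.inr (Or.inr (Or.inr (Or.inr (Or.inr (Or.inr (Or.inr (Or.inr (Or.inl ?_))))))))
      exact Or.inr (Or.inr (Or.inr (Or.inr (Or.inr (Or.inr (Or.inr (Or.inr (Or.inr (Or.inr h)))))))))),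
      spor_row (by decide) h⟩
  · exact ⟨H14.KnownSimple.sporadic (Or.inl h), spor_row (by decide) h⟩
  · exact ⟨H14.KnownSimple.sporadic (Or.inr (Or.inl h)), spor_row (by decide) h⟩
  · exact ⟨H14.KnownSimple.sporadic (Or.inr (Or.inr (Or.inl h))), spor_row (by decide) h⟩
  · refine ⟨H14.KnownSimple.isSimpleGroup (by
      refine Or.inr (Or.inr (Or.inr (Or.inr (Or.inr (Or.inr (Or.inr (Or.inr (Or.inr ?_))))))))
      refine Or.inr (Or.inr (Or.inr (Or.inr (Or.inr (Or.inr (Or.inr (Or.inr (Or.inr (Or.inr (Or.inr (Or.inr (Or.inr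
        (Or.inr (Or.inr (Or.inr (Or.inr (Or.inr (Or.inr ?_))))))))))))))))))
      exact Or.inl h), spor_row (by decide) h⟩

/-! ### the statement -/

theorem prime_card [Finite S] [IsSimpleGroup S] (h : ∀ a b : S, a * b = b * a) :
    (Nat.card S).Prime := by
  let _ : CommGroup S := { (inferInstance : Group S) with mul_comm := h }
  exact IsSimpleGroup.prime_card

theorem ordN_lt : ∀ g ∈ emb, ordN g < 76532479683774853939200 := by decide +kernel

theorem ordN_four : ∀ g ∈ emb, 4 ∣ ordN g := by decide +kernel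

theorem ordN_inj : ∀ i j : Fin emb.length, i ≠ j → ordN (emb.get i) = ordN (emb.get j) →
    (emb.get i = .alt 8 ∧ emb.get j = .psl 3 4) ∨ (emb.get i = .psl 3 4 ∧ emb.get j = .alt 8) := by decide +kernel

/-- `A₈ ≇ L₃(4)` -/
theorem not_equiv {X Y : Type*} [Group X] [Group Y] (hX : Nonempty (X ≃* ↥(alternatingGroup (Fin 8))))
    (hY : ∃ (F : Type) (_ : Field F) (_ : Fintype F), Fintype.card F = 4 ∧
      Nonempty (Y ≃* Matrix.ProjectiveSpecialLinearGroup (Fin 3) F)) (e : X ≃* Y) : False := by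
  obtain ⟨f⟩ := hX
  obtain ⟨F, _, _, hF, ⟨g⟩⟩ := hY
  obtain ⟨h⟩ := Cfsg.Agent.S0256.result (F := ZMod 2) (by decide)
  exact (Cfsg.Agent.S2550.result (F := ZMod 2) (K := F) (by decide) hF).2 ⟨h.trans (f.symm.trans (e.trans g))⟩

theorem alias_row {g : Grp} (hg : g ∈ aliases) (h : Real g S) : ∃ g' ∈ emb, Real g' S := by
  simp only [aliases, List.mem_cons, List.not_mem_nil, or_false] at hg
  rcases hg with rfl | rfl | rfl | rfl | rfl | rfl
  · obtain ⟨F, _, _, hF, ⟨e⟩⟩ := h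
    obtain ⟨f⟩ := S0252.result hF
    exact ⟨.alt 5, by decide, ⟨e.trans f⟩⟩
  · obtain ⟨F, _, _, hF, ⟨e⟩⟩ := h
    obtain ⟨f⟩ := S0253.result hF
    exact ⟨.alt 5, by decide, ⟨e.trans f⟩⟩
  · obtain ⟨F, _, _, hF, ⟨e⟩⟩ := h
    obtain ⟨f⟩ := S0254.result hF
    exact ⟨.alt 6, by decide, ⟨e.trans f⟩⟩
  · obtain ⟨F, _, _, hF, ⟨e⟩⟩ := h
    obtain ⟨f⟩ := S0255.result (F := ZMod 7) (K := F) (by rw [ZMod.card]) hF
    exact ⟨.psl 2 7, by decide, ZMod 7, inferInstance, inferInstance, by rw [ZMod.card], ⟨e.trans f.symm⟩⟩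
  · obtain ⟨F, _, _, hF, ⟨e⟩⟩ := h
    obtain ⟨f⟩ := S0256.result hF
    exact ⟨.alt 8, by decide, ⟨e.trans f⟩⟩
  · obtain ⟨F, _, _, hF, ⟨e⟩⟩ := h
    have : Fintype (GaloisField 2 2) := Fintype.ofFinite _
    have hK : Fintype.card (GaloisField 2 2) = 2 ^ 2 := by
      rw [← Nat.card_eq_fintype_card, GaloisField.card _ _ (by norm_num)]
    obtain ⟨f⟩ := S0822.result (F := GaloisField 2 2) (K := F) (by rw [hK]; norm_num) hF
    exact ⟨.psu 4 2, by decide, GaloisField 2 2, inferInstance, this, by rw [hK], ⟨e.trans f.symm⟩⟩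

/-- the list of all the candidates -/
theorem cands_sub : ∀ g ∈ cands [(2, 36), (3, 9), (5, 2), (7, 2), (11, 1), (13, 1), (17, 1), (19, 1)]
    76532479683774853939200, g ∈ emb ∨ g ∈ nots ∨ g ∈ aliases ∨ g = .te6 2 := by decide +kernel

theorem valid_N : valid [(2, 36), (3, 9), (5, 2), (7, 2), (11, 1), (13, 1), (17, 1), (19, 1)]
    76532479683774853939200 = true := by decide +kernel

theorem ordN_te6 : ordN (.te6 2) = 76532479683774853939200 := by decide +kernel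

/-- **The assembly.** -/
theorem main {K : Type u} [Field K] [Fintype K] (hK : Fintype.card K = 4) (hin : ∀ g ∈ emb, InE K g)
    (hnot : ∀ g ∈ nots, NotE K g)
    (hkn : ∀ L : Subgroup ↥(Lie.twistedE6 K 2), IsSimpleGroup ↥L → IsKnownSimple' ↥L) :
    ∃ H : Fin 39 → Subgroup (Lie.twistedE6 K 2),
      (∀ i, H i ≠ ⊤ ∧ IsSimpleGroup (H i) ∧ ¬ IsMulCommutative (H i)) ∧
      (∀ i j, i ≠ j → IsEmpty (H i ≃* H j)) ∧
      (∀ L : Subgroup (Lie.twistedE6 K 2), L ≠ ⊤ → IsSimpleGroup L → ¬ IsMulCommutative L →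
        ∃ i, Nonempty (L ≃* H i)) := by
  have hcard := Cfsg.Agent.BabyU.CentT1.card_E K hK
  have hfin : Finite ↥(Lie.twistedE6 K 2) := Nat.finite_of_card_ne_zero (by rw [hcard]; norm_num)
  have hH : ∀ i : Fin 39, ∃ L : Subgroup ↥(Lie.twistedE6 K 2), Real (emb.get i) ↥L :=
    fun i => hin _ (List.get_mem emb i)
  choose H hreal using hH
  have hrow : ∀ i, IsSimpleGroup ↥(H i) ∧ Nat.card ↥(H i) = ordN (emb.get i) := fun i =>
    row (List.get_mem emb i) (hreal i)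
  refine ⟨H, fun i => ⟨?_, (hrow i).1, ?_⟩, fun i j hij => ⟨fun e => ?_⟩, fun L hL hs hna => ?_⟩
  · intro h
    have h1 := (hrow i).2
    have h2 := ordN_lt _ (List.get_mem emb i)
    rw [h, Subgroup.card_top, hcard] at h1
    omega
  · intro h
    have h1 := ordN_four _ (List.get_mem emb i)
    have := (hrow i).1
    have h2 : (Nat.card ↥(H i)).Prime := prime_card fun a b => h.is_comm.comm a b
    rw [← (hrow i).2] at h1
    have h3 := (Nat.prime_dvd_prime_iff_eq Nat.prime_two h2).1 (dvd_trans (by norm_num) h1)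
    rw [← h3] at h1
    omega
  · have h1 : ordN (emb.get i) = ordN (emb.get j) := by
      rw [← (hrow i).2, ← (hrow j).2]
      exact Nat.card_congr e.toEquiv
    rcases ordN_inj i j hij h1 with ⟨h2, h3⟩ | ⟨h2, h3⟩
    · have h4 := hreal i
      have h5 := hreal j
      rw [h2] at h4
      rw [h3] at h5
      exact not_equiv h4 h5 e
    · have h4 := hreal i
      have h5 := hreal j
      rw [h2] at h4
      rw [h3] at h5
      exact not_equiv h5 h4 e.symm
  · have hna' : ¬ ∀ a b : ↥L, a * b = b * a := fun h => hna ⟨⟨h⟩⟩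
    obtain ⟨g, hg, hr, hc⟩ := exists_good table (hkn L hs) hna' valid_N (by
      rw [← hcard]; exact Subgroup.card_subgroup_dvd_card L)
    have key : ∀ g' ∈ emb, Real g' ↥L → ∃ i, Nonempty (↥L ≃* ↥(H i)) := by
      intro g' hg' hr'
      obtain ⟨i, hi⟩ := List.get_of_mem hg'
      refine ⟨i, H902.Iso.real_unique g' hr' ?_⟩
      rw [← hi]
      exact hreal i
    rcases cands_sub g hg with h | h | h | rfl
    · exact key g h hr
    · exact absurd hr (hnot g h L)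
    · obtain ⟨g', h1, h2⟩ := alias_row h hr
      exact key g' h1 h2
    · exfalso
      refine hL (Subgroup.eq_top_of_card_eq _ ?_)
      rw [hc, hcard, ordN_te6]

end Cfsg.Agent.H944.TS.Asm
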