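import Cfsg.Agent.H944.TS.Asm
import Cfsg.Agent.H951.TS.A1
import Cfsg.Agent.H951.TS.N1
import Cfsg.Agent.H951.TS.N6
import Cfsg.Agent.H767.TSAlt
import Cfsg.Agent.H458.TSA3
import Cfsg.Agent.H446.TSub
import Cfsg.Agent.H860.TS.SpSix
import Cfsg.Agent.H860.TS.SpEight
import Cfsg.Agent.H860.TS.OSeven
import Cfsg.Agent.H206.SubO73
import Cfsg.Agent.H64.SubG2
import Cfsg.Agent.H708.TSPsu62
import Cfsg.Agent.H958.TS.OmegaTen
import Cfsg.Agent.H846.UThreeE
import Cfsg.Agent.H848.TriF4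
import Cfsg.Agent.H660.TSTits
import Cfsg.Agent.H660.TSU6
import Cfsg.Agent.H660.TSM22
import Cfsg.Agent.H964.J1E6.Main
import Cfsg.Agent.H898.TSFivePSU
import Cfsg.Agent.H898.TSFiveNot
import Cfsg.Agent.H271.TSAlt
import Cfsg.Agent.H943.J3L19
import Cfsg.Agent.H898.TSNotL27
import Cfsg.Agent.H898.TSSzNot

/-!
# S5741: the rows (helper944)
-/

set_option autoImplicit false

namespace Cfsg.Agent.H944.TS.Asm

open Cfsg Cfsg.Agent.OrdDiv

universe u

variable {K : Type u} [Field K] [Fintype K]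

theorem all_in (hS : ∀ (S : Type) [Group S] [Finite S] [IsSimpleGroup S], IsKnownSimple' S)
    (hK : Fintype.card K = 4) : ∀ g ∈ emb, InE K g := by
  have o10 : InE K (.ominus 5 2) := Cfsg.Agent.H958.TS.OmegaTen.X hK
  obtain ⟨fi, o7, f4⟩ := Cfsg.Agent.H951.TS.A1.inE hK
  have u6 : InE K (.psu 6 2) := Cfsg.Agent.H708.TSPsu62.in_psu62 hK
  have a12 : InE K (.alt 12) := o10.sub Cfsg.Agent.H951.TS.A1.ominus_alt
  have a : ∀ n, 5 ≤ n → n ≤ 12 → InE K (.alt n) := fun n h1 h2 => a12.sub (Cfsg.Agent.H951.TS.A1.alt_alt h1 h2)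
  have s8 : InE K (.psp 4 2) := o10.sub Cfsg.Agent.H458.TSA3.X1
  have s6 : InE K (.psp 3 2) := s8.sub Cfsg.Agent.H458.TSA3.X2
  have s44 : InE K (.psp 2 4) := s8.sub Cfsg.Agent.H458.TSA3.X3
  have u5 : InE K (.psu 5 2) := o10.sub Cfsg.Agent.H446.TSub.ominus_psu5
  have l43 : InE K (.psl 4 3) := o7.sub Cfsg.Agent.H206.SubO73.X1
  have ti : InE K .tits := f4.sub Cfsg.Agent.H660.TSTits.f4_tits
  intro g hg
  simp only [emb, List.mem_cons, List.not_mem_nil, or_false] at hg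
  rcases hg with rfl | rfl | rfl | rfl | rfl | rfl | rfl | rfl | rfl | rfl | rfl | rfl | rfl | rfl | rfl | rfl | rfl |
    rfl | rfl | rfl | rfl | rfl | rfl | rfl | rfl | rfl | rfl | rfl | rfl | rfl | rfl | rfl | rfl | rfl | rfl | rfl |
    rfl | rfl | rfl
  · exact a 5 (by norm_num) (by norm_num)
  · exact a 6 (by norm_num) (by norm_num)
  · exact a 7 (by norm_num) (by norm_num)
  · exact a 8 (by norm_num) (by norm_num)
  · exact a 9 (by norm_num) (by norm_num)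
  · exact a 10 (by norm_num) (by norm_num)
  · exact a 11 (by norm_num) (by norm_num)
  · exact a12
  · exact (a 8 (by norm_num) (by norm_num)).sub Cfsg.Agent.H767.TSAlt.alt8_psl7
  · exact (a 9 (by norm_num) (by norm_num)).sub Cfsg.Agent.H767.TSAlt.alt9_psl8
  · exact a12.sub Cfsg.Agent.H767.TSAlt.alt12_psl11
  · exact o7.sub Cfsg.Agent.H860.TS.OSeven.sub
  · exact s44.sub Cfsg.Agent.H458.TSA3.X6
  · exact s8.sub Cfsg.Agent.H860.TS.SpEight.sub
  · exact ti.sub (Cfsg.Agent.H660.TSTits.tits_psl_of hS)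
  · exact l43.sub Cfsg.Agent.H206.SubO73.X2
  · exact u6.sub Cfsg.Agent.H446.TSub.psu6_psl34
  · exact l43
  · exact s44
  · exact s6
  · exact s8
  · exact s6.sub Cfsg.Agent.H860.TS.SpSix.sub
  · exact Cfsg.Agent.H846.UThreeE.inE hK
  · exact u5.sub Cfsg.Agent.H446.TSub.psu5_psu4
  · exact u6.sub (Cfsg.Agent.H660.TSU6.u6_u4_of hS)
  · exact u5
  · exact u6
  · exact s8.sub Cfsg.Agent.H458.TSA3.X4
  · exact s8.sub Cfsg.Agent.H458.TSA3.X5
  · exact o10
  · exact o7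
  · exact o7.sub Cfsg.Agent.H64.SubG2.sub_oodd_g2
  · exact f4.sub Cfsg.Agent.H848.TriF4.sub_f4_td4
  · exact f4
  · exact ti
  · exact a12.sub Cfsg.Agent.H767.TSAlt.alt12_m11
  · exact a12.sub Cfsg.Agent.H767.TSAlt.alt12_m12
  · exact u6.sub Cfsg.Agent.H660.TSM22.u6_m22
  · exact fi

theorem all_not (hK : Fintype.card K = 4) (h19 : NotE K (.psl 2 19)) : ∀ g ∈ nots, NotE K g := by
  have h27 : NotE K (.psl 2 27) := Cfsg.Agent.H898.TSNotL27.not_L27 hK
  have hsz : NotE K (.sz 8) := Cfsg.Agent.H898.TSSzNot.not_sz hK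
  obtain ⟨n1, n2, n3, n4, n5, n6, n7⟩ := Cfsg.Agent.H951.TS.N1.main hK
  have a13 : NotE K (.alt 13) := Cfsg.Agent.H271.TSAlt.notE_alt13 hK
  intro g hg
  simp only [nots, List.mem_cons, List.not_mem_nil, or_false] at hg
  rcases hg with rfl | rfl | rfl | rfl | rfl | rfl | rfl | rfl | rfl | rfl | rfl | rfl | rfl | rfl | rfl | rfl | rfl |
    rfl | rfl
  · exact h19
  · exact h27
  · exact n1
  · exact n2
  · exact n6
  · exact n7
  · exact n5
  · exact n3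
  · exact h27.sub Cfsg.Agent.H951.TS.N6.psp_psl
  · exact Cfsg.Agent.H898.TSFive.not_PSU hK
  · exact n4
  · exact hsz
  · exact Cfsg.Agent.H898.TSFive.not_G24 hK
  · exact Cfsg.Agent.H964.J1E6.notE_j1 hK
  · exact Cfsg.Agent.H898.TSFive.not_J2 hK
  · exact h19.sub Cfsg.Agent.H943.J3L19.sub_j3
  · exact Cfsg.Agent.H898.TSFive.not_Suz hK
  · exact a13
  · exact a13.sub (Cfsg.Agent.H951.TS.A1.alt_alt (by norm_num) (by norm_num))

end Cfsg.Agent.H944.TS.Asm
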